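import Groth.Agent.S1450
import Groth.Agent.S9812
import Groth.Agent.Lib.RegLoc.Normal
import Groth.Prelude.Def_ModelsG
import Mathlib.AlgebraicGeometry.Morphisms.Etale
import Mathlib.AlgebraicGeometry.FunctionField
import Mathlib.RingTheory.Etale.Field
import Mathlib.RingTheory.Jacobson.Ring
import Mathlib.RingTheory.LocalRing.ResidueField.Fiber

/-!
# Fibres of finite étale maps of varieties over an algebraically closed field
-/

universe u

open CategoryTheory AlgebraicGeometry IsLocalRing
open scoped TensorProduct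

namespace GrothLib.FibCard28

/-- Number of primes over a prime with separably closed residue field. -/
theorem card_primesOver_eq (A B : Type u) [CommRing A] [IsDomain A] [CommRing B] [Algebra A B]
    [Algebra.Etale A B] [Module.Finite A B] (p : Ideal A) [p.IsPrime] [IsSepClosed p.ResidueField] :
    Nat.card (PrimeSpectrum.comap (algebraMap A B) ⁻¹' {⟨p, inferInstance⟩} : Set _) =
      Module.finrank A B := by
  rw [Nat.card_congr (PrimeSpectrum.preimageEquivFiber A B ⟨p, inferInstance⟩)]
  haveI : Module.Finite p.ResidueField (p.Fiber B) := inferInstance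
  haveI : IsArtinianRing (p.Fiber B) := isArtinian_of_tower p.ResidueField inferInstance
  haveI := Fintype.ofFinite (PrimeSpectrum (p.Fiber B))
  rw [← Ideal.finrank_fiber_eq_finrank (M := B) p,
    (Algebra.FormallyEtale.equivPiOfIsSepClosed p.ResidueField (p.Fiber B)).toLinearEquiv.finrank_eq,
    Module.finrank_pi, Nat.card_eq_fintype_card]

theorem isAlgClosed_residueField (k A : Type u) [Field k] [IsAlgClosed k] [CommRing A] [Algebra k A]
    [Algebra.FiniteType k A] (m : Ideal A) [m.IsMaximal] : IsAlgClosed m.ResidueField := by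
  let _ := Ideal.Quotient.field m
  haveI : Module.Finite k (A ⧸ m) := finite_of_finite_type_of_isJacobsonRing k (A ⧸ m)
  have hb : Function.Bijective (algebraMap k (A ⧸ m)) :=
    IsAlgClosed.algebraMap_bijective_of_isIntegral
  exact IsAlgClosed.of_ringEquiv _ _ ((RingEquiv.ofBijective _ hb).trans
    (RingEquiv.ofBijective _ m.bijective_algebraMap_quotient_residueField))

theorem etale_of_regular {X Y : Scheme.{u}} (π : Y ⟶ X) [IsIntegral X] [IsIntegral Y]
    [FormallyUnramified π] [LocallyOfFiniteType π]
    (hregX : ∀ x : X, IsRegularLocalRing (X.presheaf.stalk x))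
    (e : π.base (genericPoint Y) = genericPoint X) : Etale π := by
  refine (Groth.Agent.S1450.result π (fun x => ?_) ⟨_, e⟩).1
  haveI := hregX x
  haveI := GrothLib.RegLoc.isIntegrallyClosed_of_isRegularLocalRing (X.presheaf.stalk x)
  exact Groth.Agent.S9812.result _

theorem natCard_fibre (k : Type u) [Field k] [IsAlgClosed k]
    (X Y : Scheme.{u}) [IsIntegral X] [IsIntegral Y] (g : X ⟶ Spec (CommRingCat.of k))
    [LocallyOfFiniteType g] (π : Y ⟶ X) [Etale π] [IsFinite π]
    (e : π.base (genericPoint Y) = genericPoint X) (p : X) (hp : IsClosed ({p} : Set X)) :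
    Nat.card {q : Y // π.base q = p} =
      Models.homDegree (X.presheaf.stalkSpecializes (specializes_of_eq e) ≫ π.stalkMap (genericPoint Y)).hom := by
  obtain ⟨U, hU, hpU, -⟩ := exists_isAffineOpen_mem_and_subset (X := X) (x := p) (U := ⊤) trivial
  let V := π ⁻¹ᵁ U
  have hV : IsAffineOpen V := hU.preimage π
  haveI : Nonempty U := ⟨⟨p, hpU⟩⟩
  have hξX : genericPoint X ∈ U := ((genericPoint_spec X).mem_open_set_iff U.2).mpr ⟨p, trivial, hpU⟩
  have hξY : genericPoint Y ∈ V := by show π.base (genericPoint Y) ∈ U; rw [e]; exact hξX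
  haveI : Nonempty V := ⟨⟨_, hξY⟩⟩
  haveI := hU; haveI := hV
  let A := Γ(X, U)
  let B := Γ(Y, V)
  let φ := X.presheaf.stalkSpecializes (specializes_of_eq e) ≫ π.stalkMap (genericPoint Y)
  have hcomp : X.presheaf.germ U (genericPoint X) hξX ≫ φ = π.app U ≫ Y.presheaf.germ V (genericPoint Y) hξY := by
    simp only [φ, TopCat.Presheaf.germ_stalkSpecializes_assoc, Scheme.Hom.germ_stalkMap]; rfl
  letI algAB : Algebra A B := (π.app U).hom.toAlgebra
  haveI : Module.Finite A B := π.finite_app U hU
  haveI : Algebra.Etale A B := by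
    have h := HasRingHomProperty.appLE (P := @Etale) π inferInstance ⟨U, hU⟩ ⟨V, hV⟩ le_rfl
    have h' : (π.app U).hom.Etale := by simpa [Scheme.Hom.appLE, V] using h
    exact RingHom.etale_algebraMap.mp h'
  letI algKL : Algebra X.functionField Y.functionField := φ.hom.toAlgebra
  haveI := functionField_isFractionRing_of_isAffineOpen X U hU
  haveI := functionField_isFractionRing_of_isAffineOpen Y V hV
  letI algAL : Algebra A Y.functionField :=
    ((algebraMap X.functionField Y.functionField).comp (algebraMap A X.functionField)).toAlgebra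
  haveI : IsScalarTower A X.functionField Y.functionField := .of_algebraMap_eq fun _ => rfl
  haveI : IsScalarTower A B Y.functionField := .of_algebraMap_eq fun a => by
    exact congrArg (fun f => f.hom a) hcomp
  show _ = Module.finrank X.functionField Y.functionField
  rw [IsFractionRing.finrank_eq A X.functionField B Y.functionField]
  let P : PrimeSpectrum A := hU.primeIdealOf ⟨p, hpU⟩
  have hmax : P.asIdeal.IsMaximal :=
    (PrimeSpectrum.isClosed_singleton_iff_isMaximal P).mp (by
      have : ({P} : Set (Spec Γ(X, U))) = hU.fromSpec ⁻¹' {p} := by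
        ext Q
        constructor
        · rintro rfl; exact hU.fromSpec_primeIdealOf ⟨p, hpU⟩
        · intro h
          exact hU.fromSpec.isOpenEmbedding.injective (h.trans (hU.fromSpec_primeIdealOf ⟨p, hpU⟩).symm)
      exact (show IsClosed ({P} : Set (Spec Γ(X, U))) from
        this.symm ▸ hp.preimage hU.fromSpec.continuous))
  letI : Algebra k A := (g.appLE ⊤ U le_top).hom.comp (Scheme.ΓSpecIso (CommRingCat.of k)).inv.hom |>.toAlgebra
  haveI : Algebra.FiniteType k A := by
    have h := g.finiteType_appLE (U := ⊤) (isAffineOpen_top _) hU le_top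
    exact h.comp (RingHom.FiniteType.of_surjective _ (ConcreteCategory.bijective_of_isIso (Scheme.ΓSpecIso (CommRingCat.of k)).inv).2)
  haveI := isAlgClosed_residueField k A P.asIdeal
  rw [← card_primesOver_eq A B P.asIdeal]
  symm
  refine Nat.card_congr (Equiv.ofBijective (fun Q => ⟨hV.fromSpec Q.1, ?_⟩) ⟨?_, ?_⟩)
  · have h1 : Spec.map (π.app U) ≫ hU.fromSpec = hV.fromSpec ≫ π := by
      rw [← hU.SpecMap_appLE_fromSpec π hV le_rfl]; simp [Scheme.Hom.appLE, V]
    have h2 := congrArg (fun f => f.base Q.1) h1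
    refine Eq.trans h2.symm ?_
    have hQ : PrimeSpectrum.comap (algebraMap A B) Q.1 = P := Q.2
    show hU.fromSpec (PrimeSpectrum.comap (algebraMap A B) Q.1) = p
    rw [hQ]
    exact hU.fromSpec_primeIdealOf ⟨p, hpU⟩
  · intro Q R h
    have h' : hV.fromSpec Q.1 = hV.fromSpec R.1 := Subtype.mk.inj h
    exact Subtype.ext (hV.fromSpec.isOpenEmbedding.injective h')
  · rintro ⟨q, hq⟩
    have hqV : q ∈ V := by show π.base q ∈ U; rw [hq]; exact hpU
    refine ⟨⟨hV.primeIdealOf ⟨q, hqV⟩, ?_⟩, Subtype.ext (hV.fromSpec_primeIdealOf ⟨q, hqV⟩)⟩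
    refine hU.fromSpec.isOpenEmbedding.injective ?_
    have h1 : Spec.map (π.app U) ≫ hU.fromSpec = hV.fromSpec ≫ π := by
      rw [← hU.SpecMap_appLE_fromSpec π hV le_rfl]; simp [Scheme.Hom.appLE, V]
    refine (congrArg (fun f => f.base (hV.primeIdealOf ⟨q, hqV⟩)) h1).trans ?_
    show π.base (hV.fromSpec (hV.primeIdealOf ⟨q, hqV⟩)) = hU.fromSpec P
    rw [hV.fromSpec_primeIdealOf, hU.fromSpec_primeIdealOf]
    exact hq

end GrothLib.FibCard28
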