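import Mathlib.AlgebraicGeometry.Fiber
import Mathlib.AlgebraicGeometry.Morphisms.Separated
import Mathlib.AlgebraicGeometry.Morphisms.Finite
import Mathlib.AlgebraicGeometry.Morphisms.QuasiFinite

/-!
# Points of finite schemes with connected fibres and a section, with values in reduced schemes
-/

universe u

open CategoryTheory Limits AlgebraicGeometry

namespace GrothLib.FibCard28

/-- A one-point affine scheme with a rational point has only one point in any reduced scheme. -/
theorem hom_unique_of_subsingleton {Z T B : Scheme.{u}} (p : Z ⟶ B) [IsAffine Z] [Subsingleton Z]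
    (e : B ⟶ Z) (he : e ≫ p = 𝟙 B) [IsReduced T] (f g : T ⟶ Z) (h : f ≫ p = g ≫ p) : f = g := by
  refine ext_of_isAffine ?_
  ext a
  let b := a - p.appTop (e.appTop a)
  have hb : e.appTop b = 0 := by
    have : e.appTop (p.appTop (e.appTop a)) = e.appTop a := by
      have := congrArg (fun m : B ⟶ B => m.appTop (e.appTop a)) he
      simpa using this
    simp only [b, map_sub, this, sub_self]
  have hnil : IsNilpotent b := by
    rw [Scheme.isNilpotent_iff_basicOpen_eq_bot]
    refine TopologicalSpace.Opens.ext (Set.eq_empty_of_forall_notMem fun z hz => ?_)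
    by_cases hB : Nonempty B
    · obtain ⟨β⟩ := hB
      have : β ∈ B.basicOpen (e.appTop b) := by
        rw [← Scheme.preimage_basicOpen_top]
        show e.base β ∈ Z.basicOpen b
        rwa [Subsingleton.elim (e.base β) z]
      rw [hb] at this
      simp at this
    · exact hB ⟨p.base z⟩
  have key : ∀ m : T ⟶ Z, m.appTop b = 0 := fun m => (hnil.map m.appTop.hom).eq_zero
  have hf := key f
  have hg := key g
  simp only [b, map_sub, sub_eq_zero] at hf hg
  rw [hf, hg]
  exact congrArg (fun m : T ⟶ B => m.appTop (e.appTop a)) h

/-- Sections over a reduced scheme of a finite scheme with connected fibres and a section agree. -/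
theorem hom_eq_of_connectedFibres {S I U : Scheme.{u}} (q : I ⟶ S) [IsFinite q] (e : S ⟶ I) (he : e ≫ q = 𝟙 S)
    (hconn : ∀ s : S, ConnectedSpace ↥(q.fiber s)) [IsReduced U] (f g : U ⟶ I) (h : f ≫ q = g ≫ q) : f = g := by
  refine ext_of_fromSpecResidueField_eq f g q Set.univ dense_univ (fun x _ => ?_) h
  let s := q (f x)
  haveI := hconn s
  haveI : IsFinite (q.fiberToSpecResidueField s) := MorphismProperty.pullback_snd _ _ ‹_›
  haveI : IsAffine (q.fiber s) := isAffine_of_isAffineHom (q.fiberToSpecResidueField s)
  haveI : Subsingleton (q.fiber s) := by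
    haveI : IsLocallyArtinian (q.fiber s) := .of_locallyQuasiFinite (q.fiberToSpecResidueField s)
    exact ⟨fun a b => isPreconnected_univ.subsingleton (Set.mem_univ a) (Set.mem_univ b)⟩
  let es : Spec (S.residueField s) ⟶ q.fiber s :=
    pullback.lift (S.fromSpecResidueField s ≫ e) (𝟙 _) (by rw [Category.assoc, he, Category.comp_id, Category.id_comp])
  have hes : es ≫ q.fiberToSpecResidueField s = 𝟙 _ := pullback.lift_snd _ _ _
  let u : Spec (U.residueField x) ⟶ Spec (S.residueField s) := Spec.map ((f ≫ q).residueFieldMap x)
  have hu : u ≫ S.fromSpecResidueField s = U.fromSpecResidueField x ≫ f ≫ q :=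
    Scheme.Hom.SpecMap_residueFieldMap_fromSpecResidueField _ x
  let fx : Spec (U.residueField x) ⟶ q.fiber s :=
    pullback.lift (U.fromSpecResidueField x ≫ f) u (by rw [hu, Category.assoc])
  let gx : Spec (U.residueField x) ⟶ q.fiber s :=
    pullback.lift (U.fromSpecResidueField x ≫ g) u (by rw [hu, Category.assoc, h])
  have := hom_unique_of_subsingleton (q.fiberToSpecResidueField s) es hes fx gx
    ((pullback.lift_snd _ _ _).trans (pullback.lift_snd _ _ _).symm)
  have h2 := congrArg (· ≫ q.fiberι s) this
  exact ((pullback.lift_fst _ _ _).symm.trans h2).trans (pullback.lift_fst _ _ _)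

end GrothLib.FibCard28
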