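import Groth.Agent.Lib.FibCard28.ConnFibre
import Groth.Prelude.Def_NonAbH2
import Mathlib.LinearAlgebra.TensorProduct.Basis
import Mathlib.LinearAlgebra.LinearIndependent.Lemmas
import Mathlib.RingTheory.TensorProduct.Maps

/-!
# Torsors under infinitesimal groups and separable extensions
-/

universe u

open CategoryTheory MonoidalCategory CartesianMonoidalCategory MonObj AlgebraicGeometry IsLocalRing
open scoped TensorProduct

namespace GrothLib.FibCard28

theorem mem_range_of_tmul_one_eq {k L : Type u} [Field k] [Field L] [Algebra k L] {y : L}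
    (h : y ⊗ₜ[k] (1 : L) = 1 ⊗ₜ y) : y ∈ Set.range (algebraMap k L) := by
  by_contra hy
  have hp : y ∉ Submodule.span k {(1 : L)} := fun hmem => by
    obtain ⟨c, rfl⟩ := Submodule.mem_span_singleton.mp hmem
    exact hy ⟨c, by rw [Algebra.smul_def, _root_.mul_one]⟩
  obtain ⟨φ, hφy, hφ⟩ := Submodule.exists_dual_map_eq_bot_of_notMem hp inferInstance
  have hφ1 : φ 1 = 0 := by
    have hm : φ 1 ∈ (Submodule.span k {(1 : L)}).map φ := Submodule.mem_map_of_mem (Submodule.mem_span_singleton_self 1)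
    rwa [hφ, Submodule.mem_bot] at hm
  have := congrArg ((TensorProduct.lid k L).toLinearMap ∘ₗ φ.rTensor L) h
  simp [hφ1, hφy] at this

theorem hasSection_of_infinitesimal (k : Type u) [Field k] (L : Type u) [Field L] [Algebra k L]
    [IsReduced (L ⊗[k] L)] (I E : Over (Spec (CommRingCat.of k))) [GrpObj I] [IsFinite I.hom]
    [Subsingleton ↥(I.left)] (a : AlgGrp.Action I E) (hE : IsIso (lift a.act (snd I E)))
    (hL : NonAbH1.HasSectionOver E (Spec.map (CommRingCat.ofHom (algebraMap k L)))) :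
    NonAbH1.HasSectionOver E (𝟙 (Spec (CommRingCat.of k))) := by
  obtain ⟨s, hs⟩ := hL
  let iL : CommRingCat.of L ⟶ CommRingCat.of (L ⊗[k] L) :=
    CommRingCat.ofHom (Algebra.TensorProduct.includeLeftRingHom)
  let iR : CommRingCat.of L ⟶ CommRingCat.of (L ⊗[k] L) :=
    CommRingCat.ofHom (Algebra.TensorProduct.includeRight (R := k) (A := L) (B := L)).toRingHom
  have hLR : CommRingCat.ofHom (algebraMap k L) ≫ iL = CommRingCat.ofHom (algebraMap k L) ≫ iR := by
    ext r
    exact Algebra.TensorProduct.tmul_one_eq_one_tmul r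
  let T : Over (Spec (CommRingCat.of k)) := Over.mk (Spec.map (CommRingCat.ofHom (algebraMap k L) ≫ iL))
  let p₁ : T ⟶ E := Over.homMk (Spec.map iL ≫ s) (by simp [T, hs, Spec.map_comp])
  let p₂ : T ⟶ E := Over.homMk (Spec.map iR ≫ s) (by simp [T, hLR, hs, Spec.map_comp])
  haveI : IsReduced T.left := inferInstanceAs (IsReduced (Spec (CommRingCat.of (L ⊗[k] L))))
  haveI : IsAffine I.left := isAffine_of_isAffineHom I.hom
  let q := lift p₁ p₂ ≫ inv (lift a.act (snd I E))
  have hq : q ≫ lift a.act (snd I E) = lift p₁ p₂ :=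
    (Category.assoc _ _ _).trans ((congrArg (lift p₁ p₂ ≫ ·) (IsIso.inv_hom_id (lift a.act (snd I E)))).trans (Category.comp_id _))
  clear_value q
  rw [comp_lift] at hq
  have h1 : q ≫ a.act = p₁ := by simpa using congrArg (· ≫ fst E E) hq
  have h2 : q ≫ snd I E = p₂ := by simpa using congrArg (· ≫ snd E E) hq
  have hg : q ≫ fst I E = toUnit T ≫ η[I] := Over.OverMorphism.ext
    (hom_unique_of_subsingleton I.hom η[I].left (Over.w η[I]) _ _ ((Over.w _).trans (Over.w _).symm))
  have hq' : q = (lift (toUnit T) p₂) ≫ (η[I] ▷ E) := by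
    ext1
    · rw [hg]; simp
    · rw [h2]; simp
  have hp : p₁ = p₂ := by
    rw [← h1, hq', Category.assoc, a.one_act, lift_leftUnitor_hom]
  have hp' : Spec.map iL ≫ s = Spec.map iR ≫ s := congrArg CommaMorphism.left hp
  let e₀ := s (closedPoint L)
  let ψ : E.left.residueField e₀ ⟶ CommRingCat.of L := E.left.descResidueField (Scheme.stalkClosedPointTo s)
  have hψ : Spec.map ψ ≫ E.left.fromSpecResidueField e₀ = s :=
    Scheme.descResidueField_stalkClosedPointTo_fromSpecResidueField L E.left s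
  have hψ' : ψ ≫ iL = ψ ≫ iR := by
    refine Spec.map_injective ((cancel_mono (E.left.fromSpecResidueField e₀)).mp ?_)
    rw [Spec.map_comp, Spec.map_comp, Category.assoc, Category.assoc, hψ]
    exact hp'
  have hrange : ∀ z, ψ z ∈ Set.range (algebraMap k L) := fun z =>
    mem_range_of_tmul_one_eq (k := k) (congrArg (fun f => f.hom z) hψ')
  choose ψ₀ hψ₀ using hrange
  have hinj := (algebraMap k L).injective
  let φ₀ : E.left.residueField e₀ ⟶ CommRingCat.of k := CommRingCat.ofHom
    { toFun := ψ₀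
      map_one' := hinj (by rw [hψ₀, map_one (algebraMap k L)]; exact map_one ψ.hom)
      map_mul' := fun x y => hinj (by rw [hψ₀, map_mul (algebraMap k L), hψ₀, hψ₀]; exact map_mul ψ.hom x y)
      map_zero' := hinj (by rw [hψ₀, map_zero (algebraMap k L)]; exact map_zero ψ.hom)
      map_add' := fun x y => hinj (by rw [hψ₀, map_add (algebraMap k L), hψ₀, hψ₀]; exact map_add ψ.hom x y) }
  have hφ₀ : φ₀ ≫ CommRingCat.ofHom (algebraMap k L) = ψ := by
    ext z; exact hψ₀ z
  refine ⟨Spec.map φ₀ ≫ E.left.fromSpecResidueField e₀, ?_⟩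
  obtain ⟨χ, hχ⟩ := Spec.map_surjective ((Spec.map φ₀ ≫ E.left.fromSpecResidueField e₀) ≫ E.hom)
  rw [← hχ, ← Spec.map_id]
  congr 1
  have h3 : χ ≫ CommRingCat.ofHom (algebraMap k L) = CommRingCat.ofHom (algebraMap k L) := Spec.map_injective (by
    rw [Spec.map_comp, hχ, ← Category.assoc, ← Spec.map_comp_assoc, hφ₀, hψ, hs])
  ext r
  exact hinj (congrArg (fun f => f.hom r) h3)

end GrothLib.FibCard28
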